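import Groth.Agent.H27LogTwist.Main
import Groth.Agent.H27LogTwist.Apply
import Groth.Agent.H17.Ample.GenAffine
import Mathlib

/-!
# The complement of an effective divisor with ample inverse is affine
-/

set_option autoImplicit false
set_option linter.style.haveILetI false
set_option backward.isDefEq.respectTransparency false
set_option backward.isDefEq.respectTransparency.types false

universe u

noncomputable section

open CategoryTheory CategoryTheory.Limits AlgebraicGeometry TopologicalSpace Opposite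

namespace Groth.Agent.H27LogVan

open Groth.Agent.H27LogNCD Groth.Agent.H27LogTwist

/-- The complement of an effective ample divisor is affine. -/
theorem isAffineOpen_compl {X T : Scheme.{u}} [IsAffine T] (q : X ⟶ T) [UniversallyClosed q] {r : ℕ}
    (D : Fin r → X.IdealSheafData)
    (hloc : ∀ x : X, ∃ (U : X.affineOpens) (g : Fin r → Γ(X, U.1)), x ∈ U.1 ∧ ∀ i, (D i).ideal U = Ideal.span {g i})
    (μ : Fin r → ℕ) (hμ : ∀ j, 1 ≤ μ j) (A : X.Modules) (hA : CohB1.IsAmple A)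
    (hAB : ClSub.IsInverseOf A (ClSub.idealMod (∏ j, D j ^ μ j))) (V : X.Opens)
    (hV : (V : Set X) = (⋃ i, ((D i).support : Set X))ᶜ) : IsAffineOpen V := by
  classical
  obtain ⟨φ⟩ := hAB
  set I := ∏ j, D j ^ μ j with hI
  let one1 : Γ(Coh.structureModule X, ⊤) := (1 : Γ(X, ⊤))
  let t : Γ(CohB1.tensorMod A (ClSub.idealMod I), ⊤) := φ.inv.app ⊤ one1
  let s : Γ(A, ⊤) := (LogNCD.inclTwist A I).app ⊤ t
  suffices h : H11Ample.gen A s = V from h ▸ H17.GenAffine.isAffineOpen_gen q hA s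
  have hAi := (H11Ample.isAmple_iff.1 hA).1
  refine TopologicalSpace.Opens.ext (Set.ext fun x => ?_)
  obtain ⟨U, g, hxU, hg⟩ := hloc x
  obtain ⟨W, e, hxW, he⟩ := H11Ample.exists_gen hAi x
  set c := ∏ i, g i ^ μ i with hc
  have hIU : I.ideal U = Ideal.span {c} := ideal_prod_pow D μ Finset.univ U g hg
  obtain ⟨σ, hσ⟩ := (H29Blow.mem_ideal_iff_exists_idealSect I U.2 c).1 (hIU.ge (Ideal.mem_span_singleton_self _))
  obtain ⟨V₁, hV₁, hxV₁, e₁, he₁⟩ := jmap_locally_surjective A I U.2 hIU σ hσ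
    (rm _ (le_top : U.1 ≤ ⊤) t) x hxU
  let Q : X.Opens := V₁ ⊓ W
  have hQU : Q ≤ U.1 := inf_le_left.trans hV₁
  obtain ⟨a, ha⟩ := H11Ample.exists_coeff (he.res (inf_le_right : Q ≤ W)) (rm A (inf_le_left : Q ≤ V₁) e₁)
  have ht : rm _ (le_top : Q ≤ ⊤) t =
      a • jmap A I (rm _ hQU σ) (A.presheaf.map (homOfLE (inf_le_right : Q ≤ W)).op e) := by
    rw [← map_smul, ← ha]
    have h1 := congrArg (rm _ (inf_le_left : Q ≤ V₁)) he₁
    rw [jmap_res] at h1
    simp only [rm, map_mapM] at h1 ⊢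
    exact h1.symm
  have hunit : IsUnit a := by
    have h1 := congrArg (φ.hom.app Q) ht
    rw [Scheme.Modules.Hom.app_smul] at h1
    have h2 : φ.hom.app Q (rm _ (le_top : Q ≤ ⊤) t) = rm (Coh.structureModule X) (le_top : Q ≤ ⊤) one1 := by
      rw [rm, app_mapM φ.hom (le_top : Q ≤ ⊤) t]
      congr 1
      exact congr($(congrArg (fun ψ : Coh.structureModule X ⟶ Coh.structureModule X => ψ.app ⊤) φ.inv_hom_id) one1)
    rw [h2] at h1
    refine IsUnit.of_mul_eq_one (show Γ(X, Q) from φ.hom.app Q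
      (jmap A I (rm _ hQU σ) (A.presheaf.map (homOfLE (inf_le_right : Q ≤ W)).op e))) (h1.symm.trans ?_)
    exact map_one (X.presheaf.map (homOfLE (le_top : Q ≤ ⊤)).op).hom
  have hs : A.presheaf.map (homOfLE (le_top : Q ≤ ⊤)).op s =
      (a * rs hQU c) • A.presheaf.map (homOfLE (inf_le_right : Q ≤ W)).op e := by
    have h1 := congrArg ((LogNCD.inclTwist A I).app Q) ht
    rw [Scheme.Modules.Hom.app_smul, incl_jmap] at h1
    rw [mul_smul, show rs hQU c = OmegaSh.idealSect I Q (rm _ hQU σ) by rw [rm, H29Blow.idealSect_res, hσ]]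
    refine Eq.trans ?_ h1
    exact (app_mapM (LogNCD.inclTwist A I) (le_top : Q ≤ ⊤) t).symm
  have hgen := H11Ample.gen_inf_eq_basicOpen (he.res (inf_le_right : Q ≤ W)) s (a * rs hQU c) hs
  rw [Scheme.basicOpen_mul, Scheme.basicOpen_of_isUnit _ hunit] at hgen
  have hxQ : x ∈ Q := ⟨hxV₁, hxW⟩
  have key : x ∈ H11Ample.gen A s ↔ x ∈ X.basicOpen (∏ i, g i) := by
    have h1 : x ∈ H11Ample.gen A s ↔ x ∈ X.basicOpen (rs hQU c) := by
      constructor
      · intro h
        exact ((hgen ▸ (⟨h, hxQ⟩ : x ∈ H11Ample.gen A s ⊓ Q)) : x ∈ Q ⊓ X.basicOpen (rs hQU c)).2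
      · intro h
        exact ((hgen.symm ▸ (⟨hxQ, h⟩ : x ∈ Q ⊓ X.basicOpen (rs hQU c))) : x ∈ H11Ample.gen A s ⊓ Q).1
    rw [h1, rs, Scheme.basicOpen_res]
    refine ⟨fun h => ?_, fun h => ⟨hxQ, ?_⟩⟩
    · have h' : x ∈ X.basicOpen c := h.2
      rw [Scheme.mem_basicOpen _ _ x hxU, hc, map_prod, IsUnit.prod_univ_iff] at h'
      rw [Scheme.mem_basicOpen _ _ x hxU, map_prod, IsUnit.prod_univ_iff]
      intro i
      have := h' i
      rw [map_pow] at this
      exact (isUnit_pow_iff (Nat.one_le_iff_ne_zero.1 (hμ i))).1 this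
    · rw [Scheme.mem_basicOpen _ _ x hxU, map_prod, IsUnit.prod_univ_iff] at h
      show x ∈ X.basicOpen c
      rw [Scheme.mem_basicOpen _ _ x hxU, hc, map_prod, IsUnit.prod_univ_iff]
      intro i
      rw [map_pow]
      exact (h i).pow _
  rw [SetLike.mem_coe, key, hV, Set.mem_compl_iff, Set.mem_iUnion, not_exists]
  rw [Scheme.mem_basicOpen _ _ x hxU, map_prod, IsUnit.prod_univ_iff]
  refine forall_congr' fun i => ?_
  have h2 := (D i).coe_support_inter U
  rw [hg i, Scheme.zeroLocus_span, Scheme.zeroLocus_singleton] at h2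
  rw [← Scheme.mem_basicOpen _ _ x hxU]
  constructor
  · intro hi hsupp
    have : x ∈ ((D i).support : Set X) ∩ U.1 := ⟨hsupp, hxU⟩
    rw [h2] at this
    exact this.1 hi
  · intro hn
    by_contra hi
    have : x ∈ (X.basicOpen (g i) : Set X)ᶜ ∩ U.1 := ⟨hi, hxU⟩
    rw [← h2] at this
    exact hn this.1

end Groth.Agent.H27LogVan
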