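import Groth.Agent.H27LogTwist.Main
import Groth.Agent.H11Tilde.QCohCrit
import Groth.Agent.H27LogTwist.LocFree
import Mathlib

/-!
# The terms of the de Rham complex of a logarithmic connection
-/

set_option autoImplicit false
set_option backward.isDefEq.respectTransparency false
set_option backward.isDefEq.respectTransparency.types false
set_option linter.style.haveILetI false

universe u

noncomputable section

open CategoryTheory CategoryTheory.Limits AlgebraicGeometry TopologicalSpace Opposite TensorProduct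
open exteriorPower

namespace Groth.Agent.H27LogVan

open Groth.Agent.H27LogNCD Groth.Agent.H27LogTwist

variable {X S : Scheme.{u}} {f : X ⟶ S} {Ω : X.Modules} {d : OmegaSh.Der f Ω} {r : ℕ}
  {D : Fin r → X.IdealSheafData} {Λ : LogNCD.LogMod d D} {E : X.Modules}
  {nabla : Coh.toAb E ⟶ Coh.toAb (CohB1.tensorMod E Λ.L)} (K : ConnSh.Cx (LogNCD.der Λ) E nabla)

theorem isQCoh_term (hd : OmegaSh.IsUniversal d) (hD : LogNCD.IsNCD D f) [Smooth f] (hE : FlatMod.IsFinLocFree E)
    (p : ℕ) : (K.term p).IsQuasicoherent := by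
  classical
  have hch := fun x : X => exists_chart_near hd hD Λ hE ⊤ x trivial
  choose U g dl hxU _ hc using hch
  refine H11Tilde.isQuasicoherent_of_basicOpen_localization (K.term p) U
    (TopologicalSpace.IsOpenCover.mk (eq_top_iff.2 fun x _ => Opens.mem_iSup.2 ⟨x, hxU x⟩))
    (fun x => (hc x).frame.affine) ?_ ?_
  · intro x a s hs
    obtain ⟨nE, bE, hbE⟩ := (hc x).basE
    obtain ⟨nL, bL, hbL⟩ := (hc x).basL
    have hU := (hc x).frame.affine
    let Ua : X.affineOpens := ⟨U x, hU⟩
    let Va : X.affineOpens := ⟨X.basicOpen a, hU.basicOpen a⟩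
    let BU := (hbE.basis (le_refl (U x))).tensorProduct ((hbL.basis (le_refl (U x))).exteriorPower p)
    let BV := (hbE.basis (X.basicOpen_le a)).tensorProduct ((hbL.basis (X.basicOpen_le a)).exteriorPower p)
    have key : ∀ q, rho K p (U := Ua) (V := Va) (X.basicOpen_le a) (BU q) = BV q := fun ⟨j, t⟩ => by
      simp only [BU, BV, Module.Basis.tensorProduct_apply, exteriorPower.basis_apply, exteriorPower.ιMulti_family,
        Function.comp_def, OBas.basis_apply]
      rw [rho_tmul]
      simp [rm]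
      rfl
    let z := K.loc p Ua s
    have hz : rho K p (U := Ua) (V := Va) (X.basicOpen_le a) z = 0 := by
      show K.loc p Va (rm _ _ ((K.loc p Ua).symm (K.loc p Ua s))) = 0
      rw [LinearEquiv.symm_apply_apply]
      exact (congrArg (K.loc p Va) hs).trans (map_zero _)
    rw [← BU.sum_repr z, map_sum] at hz
    rw [Finset.sum_congr rfl fun q _ => (rho_smul K p (U := Ua) (V := Va) (X.basicOpen_le a) _ _).trans (congrArg _ (key q))] at hz
    have h0 := Fintype.linearIndependent_iff.1 BV.linearIndependent _ hz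
    haveI := hU.isLocalization_basicOpen a
    have hq : ∀ q, ∃ n : ℕ, a ^ n * BU.repr z q = 0 := fun q => by
      obtain ⟨⟨_, n, rfl⟩, hn⟩ := (IsLocalization.map_eq_zero_iff (Submonoid.powers a) Γ(X, X.basicOpen a) _).1 (h0 q)
      exact ⟨n, hn⟩
    choose n hn using hq
    refine ⟨Finset.univ.sup n, (K.loc p Ua).injective ?_⟩
    show K.loc p Ua _ = _
    rw [map_smul, map_zero]
    show a ^ Finset.univ.sup n • z = 0
    rw [← BU.sum_repr z, Finset.smul_sum]
    refine Finset.sum_eq_zero fun q _ => ?_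
    obtain ⟨m, hm⟩ := Nat.exists_eq_add_of_le (Finset.le_sup (f := n) (Finset.mem_univ q))
    rw [smul_smul, hm, pow_add, mul_comm (a ^ n q), mul_assoc, hn q, mul_zero, zero_smul]
  · intro x a s'
    obtain ⟨nE, bE, hbE⟩ := (hc x).basE
    obtain ⟨nL, bL, hbL⟩ := (hc x).basL
    have hU := (hc x).frame.affine
    let Ua : X.affineOpens := ⟨U x, hU⟩
    let Va : X.affineOpens := ⟨X.basicOpen a, hU.basicOpen a⟩
    let BU := (hbE.basis (le_refl (U x))).tensorProduct ((hbL.basis (le_refl (U x))).exteriorPower p)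
    let BV := (hbE.basis (X.basicOpen_le a)).tensorProduct ((hbL.basis (X.basicOpen_le a)).exteriorPower p)
    have key : ∀ q, rho K p (U := Ua) (V := Va) (X.basicOpen_le a) (BU q) = BV q := fun ⟨j, t⟩ => by
      simp only [BU, BV, Module.Basis.tensorProduct_apply, exteriorPower.basis_apply, exteriorPower.ιMulti_family,
        Function.comp_def, OBas.basis_apply]
      rw [rho_tmul]
      simp [rm]
      rfl
    suffices ∃ (n : ℕ) (z : NN Λ E (U x) p),
        rho K p (U := Ua) (V := Va) (X.basicOpen_le a) z = rs (X.basicOpen_le a) (a ^ n) • K.loc p Va s' by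
      obtain ⟨n, z, hz⟩ := this
      refine ⟨n, (K.loc p Ua).symm z, (K.loc p Va).injective ?_⟩
      show rho K p (U := Ua) (V := Va) (X.basicOpen_le a) z = K.loc p Va _
      rw [map_smul, hz]
    rw [← BV.sum_repr (K.loc p Va s')]
    refine Finset.sum_induction _ (fun y => ∃ (n : ℕ) (z : NN Λ E (U x) p),
      rho K p (U := Ua) (V := Va) (X.basicOpen_le a) z = rs (X.basicOpen_le a) (a ^ n) • y) ?_ ?_ fun q _ => ?_
    · rintro y y' ⟨n, z, hz⟩ ⟨m, w, hw⟩
      refine ⟨n + m, a ^ m • z + a ^ n • w, ?_⟩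
      rw [map_add, rho_smul, rho_smul, hz, hw, smul_add, smul_smul, smul_smul]
      simp only [rs, map_pow]
      rw [← pow_add, ← pow_add, add_comm m n]
    · exact ⟨0, 0, by rw [map_zero, smul_zero]⟩
    · haveI := hU.isLocalization_basicOpen a
      obtain ⟨⟨c, ⟨_, n, rfl⟩⟩, hn⟩ := IsLocalization.surj (Submonoid.powers a) (BV.repr (K.loc p Va s') q)
      refine ⟨n, c • BU q, ?_⟩
      rw [rho_smul, key, smul_smul]
      congr 1
      rw [mul_comm]
      exact hn.symm

theorem isZero_term (hE : FlatMod.IsFinLocFree E) {n p : ℕ} (hL : FlatMod.IsFinLocFreeOfRank n Λ.L) (hp : n < p) :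
    IsZero (Coh.toAb (K.term p)) := by
  have key : ∀ (W : X.Opens) (x : X), x ∈ W → ∃ W' : X.Opens, W' ≤ W ∧ x ∈ W' ∧
      Subsingleton Γ(K.term p, W') := by
    intro W x hx
    obtain ⟨UL, hxL, ⟨e⟩⟩ := hL x
    obtain ⟨bL, hbL⟩ := exists_basis_of_iso Λ.L e
    replace hbL : OBas Λ.L UL bL := hbL
    obtain ⟨UE, nE, bE, hxE, hbE⟩ := exists_obas hE x
    obtain ⟨V, hV, hxV, hle⟩ := exists_isAffineOpen_mem_and_subset (show x ∈ W ⊓ UL ⊓ UE from ⟨⟨hx, hxL⟩, hxE⟩)
    refine ⟨V, fun y hy => (hle hy).1.1, hxV, ?_⟩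
    let BV := (hbE.basis (show V ≤ UE from fun y hy => (hle hy).2)).tensorProduct
      ((hbL.basis (show V ≤ UL from fun y hy => (hle hy).1.2)).exteriorPower p)
    haveI : IsEmpty (Set.powersetCard (Fin n) p) := ⟨fun ⟨t, ht⟩ => by
      have := Finset.card_le_univ t
      rw [Fintype.card_fin] at this
      rw [Set.powersetCard.mem_iff] at ht
      omega⟩
    haveI : Subsingleton (NN Λ E V p) := BV.repr.toEquiv.subsingleton
    exact (K.loc p ⟨V, hV⟩).toEquiv.subsingleton
  rw [IsZero.iff_id_eq_zero]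
  refine CategoryTheory.Sheaf.hom_ext (NatTrans.ext (funext fun W => ?_))
  refine AddCommGrpCat.hom_ext (AddMonoidHom.ext fun s => ?_)
  change (show Γ(K.term p, W.unop) from s) = 0
  choose V hVW hxV hV0 using fun x : W.unop => key W.unop x.1 x.2
  refine TopCat.Sheaf.eq_of_locally_eq' ⟨(K.term p).presheaf, (K.term p).isSheaf⟩ V W.unop
    (fun x => homOfLE (hVW x)) (fun y hy => Opens.mem_iSup.mpr ⟨⟨y, hy⟩, hxV ⟨y, hy⟩⟩) _ _ fun x => ?_
  exact (hV0 x).elim _ _

end Groth.Agent.H27LogVan
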