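import Groth.Agent.H27LogVan.Local
import Groth.Agent.H27LogVan.Terms
import Groth.Agent.H27LogComp.MV
import Groth.Agent.H27LogComp.HDU
import Groth.Agent.H27LogComp.Global
import Mathlib

/-!
# The log de Rham complex without positive integral residues computes the cohomology of the complement
-/

set_option autoImplicit false
set_option linter.style.haveILetI false
set_option backward.isDefEq.respectTransparency false
set_option backward.isDefEq.respectTransparency.types false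

universe u

noncomputable section

open CategoryTheory CategoryTheory.Limits AlgebraicGeometry TopologicalSpace Opposite TensorProduct

namespace Groth.Agent.H27LogVan

open Groth.Agent.H27LogNCD Groth.Agent.H27LogTwist
open Groth.Agent.H27LogComp (ResBij resBij_sup bijective_HDUres_of_sections isRegular_rs)

variable {X S : Scheme.{u}} {f : X ⟶ S} {Ω : X.Modules} {d : OmegaSh.Der f Ω} {r : ℕ}
  {D : Fin r → X.IdealSheafData} {Λ : LogNCD.LogMod d D} {E : X.Modules}
  {nabla : Coh.toAb E ⟶ Coh.toAb (CohB1.tensorMod E Λ.L)} (K : ConnSh.Cx (LogNCD.der Λ) E nabla)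

theorem chart_res {U W : X.Opens} {g : Fin r → Γ(X, U)} {dl : Fin r → Γ(Λ.L, U)} (hc : Chart Λ E U g dl)
    (hW : IsAffineOpen W) (h : W ≤ U) :
    ∃ (g' : Fin r → Γ(X, W)) (dl' : Fin r → Γ(Λ.L, W)), Chart Λ E W g' dl' := by
  obtain ⟨dl', hf⟩ := logMod_frame Λ hW (g := fun i => rs h (g i))
    fun i => ideal_res hc.frame.affine hW h (hc.frame.ideal i)
  obtain ⟨V0, hV0, hle⟩ := hc.base
  obtain ⟨n, b, hb⟩ := hc.basL
  obtain ⟨m, bE, hbE⟩ := hc.basE
  exact ⟨_, dl', hf, ⟨V0, hV0, h.trans hle⟩, fun i => isRegular_rs hc.frame.affine hW h (hc.regular i),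
    ⟨m, _, hbE.res h⟩, ⟨n, _, hb.res h⟩⟩

/-- sections of the `p`-th term, read in `E ⊗ ⋀L` -/
def TT (W : X.affineOpens) (p : ℕ) : (K.K.X p).obj.obj (op W.1) → NN Λ E W.1 p :=
  fun y => K.loc p W ((K.iso p).hom.hom.app (op W.1) y)

theorem TT_bijective (W : X.affineOpens) (p : ℕ) : Function.Bijective (TT K W p) :=
  ⟨fun a b h => by rw [← iso_inv_hom K p W.1 a, (K.loc p W).injective h, iso_inv_hom],
    fun z => ⟨(K.iso p).inv.hom.app (op W.1) ((K.loc p W).symm z), by simp [TT, iso_hom_inv]⟩⟩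

theorem TT_zero (W : X.affineOpens) (p : ℕ) : TT K W p 0 = 0 := by simp [TT]

theorem TT_add (W : X.affineOpens) (p : ℕ) (a b : (K.K.X p).obj.obj (op W.1)) :
    TT K W p (a + b) = TT K W p a + TT K W p b := by simp [TT]

theorem TT_d (W : X.affineOpens) (p : ℕ) (y : (K.K.X p).obj.obj (op W.1)) :
    TT K W (p + 1) ((K.K.d p (p + 1)).hom.app (op W.1) y) = DU K W p (TT K W p y) := by
  simp only [TT, DU, AddMonoidHom.coe_mk, ZeroHom.coe_mk, LinearEquiv.symm_apply_apply, iso_inv_hom]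

theorem TT_res {W V : X.affineOpens} (h : V.1 ≤ W.1) (p : ℕ) (y : (K.K.X p).obj.obj (op W.1)) :
    TT K V p ((K.K.X p).obj.map (homOfLE h).op y) = rho K p h (TT K W p y) := by
  show K.loc p V _ = K.loc p V (rm _ h ((K.loc p W).symm (K.loc p W _)))
  rw [LinearEquiv.symm_apply_apply]
  exact congrArg (K.loc p V) (natural (K.iso p).hom h y)

variable (hd : OmegaSh.IsUniversal d) (ρ : ∀ i : Fin r, E ⟶ CohB1.tensorMod E (ClSub.quotMod (D i)))
  (hρ : ∀ i, LogNCD.IsResidue Λ E nabla i (ρ i))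
  (hstar : ∀ i (j : ℕ), 1 ≤ j → ∀ (U : X.Opens), IsAffineOpen U → ∀ m : Γ(E, U), ∃ m' : Γ(E, U),
    (ρ i).app U m' - (j : Γ(X, U)) • pimap (D := D) E i U m' = pimap (D := D) E i U m)
  [HasDerivedCategory.{u} (Sheaf (Opens.grothendieckTopology X) AddCommGrpCat.{u})]

include hd hρ hstar

theorem resBij_chart (hq : ∀ p, (K.term p).IsQuasicoherent) (U : X.Opens)
    (hU : (U : Set X) = (⋃ i, ((D i).support : Set X))ᶜ) {W : X.Opens} {g : Fin r → Γ(X, W)}
    {dl : Fin r → Γ(Λ.L, W)} (hc : Chart Λ E W g dl) :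
    ResBij (DerivedCategory.Q.obj K.KZ) U W := by
  have hWV : W ⊓ U = (Chart.V hc.frame.affine g).1 := by
    refine TopologicalSpace.Opens.ext (Set.ext fun x => ?_)
    show x ∈ W ∧ x ∈ (U : Set X) ↔ x ∈ (X.basicOpen (∏ i, g i) : X.Opens)
    rw [hU, Set.mem_compl_iff, Set.mem_iUnion, not_exists]
    constructor
    · rintro ⟨hx, hn⟩
      rw [Scheme.mem_basicOpen _ _ x hx, map_prod, IsUnit.prod_univ_iff]
      intro i
      by_contra hi
      refine hn i ?_
      have := (D i).coe_support_inter ⟨W, hc.frame.affine⟩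
      have hmem : x ∈ ((D i).support : Set X) ∩ W := by
        rw [this, hc.frame.ideal i]
        refine ⟨?_, hx⟩
        rw [Scheme.zeroLocus_span, Scheme.zeroLocus_singleton]
        exact fun hb => hi ((Scheme.mem_basicOpen _ _ x hx).1 hb)
      exact hmem.1
    · intro hx
      have hxW : x ∈ W := X.basicOpen_le _ hx
      refine ⟨hxW, fun i hi => ?_⟩
      have := (D i).coe_support_inter ⟨W, hc.frame.affine⟩
      have hmem : x ∈ ((D i).support : Set X) ∩ W := ⟨hi, hxW⟩
      rw [this, hc.frame.ideal i, Scheme.zeroLocus_span, Scheme.zeroLocus_singleton] at hmem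
      rw [Scheme.mem_basicOpen _ _ x hxW, map_prod, IsUnit.prod_univ_iff] at hx
      exact hmem.1 ((Scheme.mem_basicOpen _ _ x hxW).2 (hx i))
  have hacyc : ∀ (A : X.affineOpens) (p q : ℕ), Subsingleton
      (Abelian.Ext.{u} (CohCx.freeSheaf (Opens.grothendieckTopology X) A.1) (K.K.X p) (q + 1)) := fun A p q => by
    haveI : (K.term p).IsQuasicoherent := hq p
    exact @Equiv.subsingleton _ _ (E1Deg.extCongrRight _ (K.iso p) (q + 1)).toEquiv
      (H10Coh.subsingleton_HnM_of_isAffineOpen (K.term p) A.2 q)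
  intro n
  revert n
  suffices ∀ (V : X.Opens) (h : V ≤ W), V = (Chart.V hc.frame.affine g).1 →
      ∀ n, Function.Bijective (CohCx.HDUres (DerivedCategory.Q.obj K.KZ) n (homOfLE h)) from this _ _ hWV
  rintro V h rfl n
  let Wa : X.affineOpens := ⟨W, hc.frame.affine⟩
  let Va : X.affineOpens := Chart.V hc.frame.affine g
  have hs' := fun i j hj => hstar i j hj W hc.frame.affine
  refine bijective_HDUres_of_sections K.K h (hacyc Wa) (hacyc Va) (fun y hy => ?_) (fun p y hy => ?_)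
    (fun z hz => ?_) (fun p z y hzy => ?_) n
  · obtain ⟨z, hz, hzy⟩ := (surj_on_chart K hc ρ hρ hs' hd).1 (TT K Va 0 y) (by rw [← TT_d, hy, TT_zero])
    obtain ⟨z', rfl⟩ := (TT_bijective K Wa 0).2 z
    refine ⟨z', (TT_bijective K Wa 1).1 (by rw [TT_d, hz, TT_zero]), (TT_bijective K Va 0).1 ?_⟩
    rw [TT_res K (W := Wa) (V := Va), hzy]
  · obtain ⟨z, b, hz, hzy⟩ := (surj_on_chart K hc ρ hρ hs' hd).2 p (TT K Va (p + 1) y) (by rw [← TT_d, hy, TT_zero])
    obtain ⟨z', rfl⟩ := (TT_bijective K Wa (p + 1)).2 z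
    obtain ⟨b', rfl⟩ := (TT_bijective K Va p).2 b
    refine ⟨z', b', (TT_bijective K Wa (p + 2)).1 (by rw [TT_d, hz, TT_zero]), (TT_bijective K Va (p + 1)).1 ?_⟩
    rw [TT_add, TT_res K (W := Wa) (V := Va), TT_d, hzy]
  · refine (TT_bijective K Wa 0).1 ?_
    rw [TT_zero]
    exact hc.rho_V_injective K 0 ((by rw [← TT_res K (W := Wa) (V := Va), hz, TT_zero, map_zero] :
      rho K 0 (U := Wa) (V := Va) h (TT K Wa 0 z) = rho K 0 (U := Wa) (V := Va) h 0))
  · obtain ⟨a, ha⟩ := inj_on_chart K hc ρ hρ hs' hd p (TT K Wa (p + 1) z) (TT K Va p y)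
      (by rw [← TT_res K (W := Wa) (V := Va), hzy, TT_d])
    obtain ⟨a', rfl⟩ := (TT_bijective K Wa p).2 a
    exact ⟨a', (TT_bijective K Wa (p + 1)).1 (by rw [TT_d, ha])⟩

theorem resBij_sup_charts [X.IsSeparated] (hq : ∀ p, (K.term p).IsQuasicoherent) (U : X.Opens)
    (hU : (U : Set X) = (⋃ i, ((D i).support : Set X))ᶜ) {ι : Type*} (s : Finset ι) :
    ∀ W : ι → X.Opens, (∀ i ∈ s, ∃ (g : Fin r → Γ(X, W i)) (dl : Fin r → Γ(Λ.L, W i)), Chart Λ E (W i) g dl) →
      s.Nonempty → ResBij (DerivedCategory.Q.obj K.KZ) U (s.sup W) := by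
  classical
  induction s using Finset.induction with
  | empty => intro W _ hs; exact absurd hs Finset.not_nonempty_empty
  | insert a t ha ih =>
    intro W hW _
    obtain ⟨ga, dla, hca⟩ := hW a (Finset.mem_insert_self a t)
    rw [Finset.sup_insert]
    rcases t.eq_empty_or_nonempty with rfl | ht
    · rw [Finset.sup_empty, sup_bot_eq]
      exact resBij_chart K hd ρ hρ hstar hq U hU hca
    refine resBij_sup _ _ (resBij_chart K hd ρ hρ hstar hq U hU hca)
      (ih W (fun i hi => hW i (Finset.mem_insert_of_mem hi)) ht) ?_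
    rw [Finset.sup_inf_distrib_left]
    refine ih _ (fun i hi => ?_) ht
    obtain ⟨gi, dli, hci⟩ := hW i (Finset.mem_insert_of_mem hi)
    exact chart_res hca (hca.frame.affine.inf hci.frame.affine) inf_le_left

theorem resBij_top [X.IsSeparated] [CompactSpace X] [Nonempty X] [Smooth f] (hD : LogNCD.IsNCD D f)
    (hE : FlatMod.IsFinLocFree E) (U : X.Opens) (hU : (U : Set X) = (⋃ i, ((D i).support : Set X))ᶜ) :
    ResBij (DerivedCategory.Q.obj K.KZ) U ⊤ := by
  have hq : ∀ p, (K.term p).IsQuasicoherent := isQCoh_term K hd hD hE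
  have hch := fun x : X => exists_chart_near hd hD Λ hE ⊤ x trivial
  choose W g dl hxW _ hc using hch
  obtain ⟨s, hs⟩ := CompactSpace.elim_nhds_subcover (fun x => (W x : Set X))
    fun x => (W x).2.mem_nhds (hxW x)
  have htop : s.sup W = ⊤ := by
    refine top_le_iff.1 fun x _ => ?_
    have hx : x ∈ ⋃ y ∈ s, (W y : Set X) := hs.ge trivial
    obtain ⟨y, hy, hxy⟩ := Set.mem_iUnion₂.1 hx
    exact Finset.le_sup (f := W) hy hxy
  have hne : s.Nonempty := by
    obtain ⟨x⟩ := (inferInstance : Nonempty X)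
    obtain ⟨y, hy, -⟩ := Set.mem_iUnion₂.1 (hs.ge (Set.mem_univ x))
    exact ⟨y, hy⟩
  rw [← htop]
  exact resBij_sup_charts K hd ρ hρ hstar hq U hU s W (fun i _ => ⟨g i, dl i, hc i⟩) hne

omit hρ hstar

/-- Nothing above the rank on an affine open. -/
theorem subsingleton_HdRU_affine [Smooth f] (hD : LogNCD.IsNCD D f) (hE : FlatMod.IsFinLocFree E) {n : ℕ}
    (hL : FlatMod.IsFinLocFreeOfRank n Λ.L) {V : X.Opens} (hV : IsAffineOpen V) {l : ℤ} (hl : (n : ℤ) < l) :
    Subsingleton (ConnSh.HdRU K l V) := by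
  refine H26Hyper.subsingleton_HT (T := CohCx.freeSheaf (Opens.grothendieckTopology X) V) K.KZ 0 n l
    (fun m hm => ?_) (fun m hm => ?_) (fun p q hp hpn hpq => ?_)
  · refine K.K.isZero_extend_X _ m fun p hp => ?_
    rw [ComplexShape.embeddingUpNat_f] at hp
    omega
  · obtain ⟨p, rfl⟩ := Int.eq_ofNat_of_zero_le (by omega : 0 ≤ m)
    exact (isZero_term K hE hL (by omega)).of_iso
      (K.K.extendXIso ComplexShape.embeddingUpNat (ComplexShape.embeddingUpNat_f p) ≪≫ K.iso p)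
  · obtain ⟨p, rfl⟩ := Int.eq_ofNat_of_zero_le hp
    obtain ⟨q, rfl⟩ : ∃ q', q = q' + 1 := ⟨q - 1, by omega⟩
    haveI : (K.term p).IsQuasicoherent := isQCoh_term K hd hD hE p
    exact @Equiv.subsingleton _ _ (E1Deg.extCongrRight _
      (K.K.extendXIso ComplexShape.embeddingUpNat (ComplexShape.embeddingUpNat_f p) ≪≫ K.iso p) (q + 1)).toEquiv
      (H10Coh.subsingleton_HnM_of_isAffineOpen (K.term p) hV q)

end Groth.Agent.H27LogVan
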