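import Groth.Agent.H27LogTwist.Main
import Groth.Agent.H27LogTwist.Reverse
import Groth.Agent.H10Coh.QCohOps
import Groth.Agent.H10Coh.TensorTilde
import Groth.Agent.H26Ext.Quot

/-!
# Logarithmic connections: removing poles of all orders on a chart
-/

set_option autoImplicit false
set_option backward.isDefEq.respectTransparency false
set_option backward.isDefEq.respectTransparency.types false
set_option linter.style.haveILetI false

universe u

noncomputable section

open CategoryTheory AlgebraicGeometry TopologicalSpace Opposite TensorProduct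
open exteriorPower

namespace Groth.Agent.H27LogVan

open Groth.Agent.H27LogNCD Groth.Agent.H27LogTwist

variable {X S : Scheme.{u}} {f : X ⟶ S} {Ω : X.Modules} {d : OmegaSh.Der f Ω} {r : ℕ}
  {D : Fin r → X.IdealSheafData} {Λ : LogNCD.LogMod d D} {E : X.Modules}
  {nabla : Coh.toAb E ⟶ Coh.toAb (CohB1.tensorMod E Λ.L)}

/-- Away from positive integers the residues are locally surjective, on any affine open. -/
theorem exists_preimage_residue (hE : E.IsQuasicoherent) (i : Fin r)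
    (ρ : E ⟶ CohB1.tensorMod E (ClSub.quotMod (D i)))
    (R : CohB1.tensorMod E (ClSub.quotMod (D i)) ⟶ CohB1.tensorMod E (ClSub.quotMod (D i)))
    (hR : (SecTwist.unitorR E).inv ≫ KoszTw.tensorMap (𝟙 E) (ClSub.toSubscheme (D i)) ≫ R = ρ)
    (j : ℕ) (hiso : IsIso (R - j • 𝟙 (CohB1.tensorMod E (ClSub.quotMod (D i)))))
    {U : X.Opens} (hU : IsAffineOpen U) (m : Γ(E, U)) :
    ∃ m' : Γ(E, U), ρ.app U m' - (j : Γ(X, U)) • pimap (D := D) E i U m' = pimap (D := D) E i U m := by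
  let G := R - j • 𝟙 (CohB1.tensorMod E (ClSub.quotMod (D i)))
  obtain ⟨z, hz⟩ := (ConcreteCategory.bijective_of_isIso (G.app U)).2 (pimap (D := D) E i U m)
  let π : E ⟶ CohB1.tensorMod E (ClSub.quotMod (D i)) :=
    (SecTwist.unitorR E).inv ≫ KoszTw.tensorMap (𝟙 E) (ClSub.toSubscheme (D i))
  haveI : Epi π := H11Tilde.epi_of_locally_surjective π fun W t x hx => by
    obtain ⟨V, hV, hxV, e, he⟩ := pimap_locally_surjective (D := D) E i (U := W) t x hx
    exact ⟨V, hV, hxV, e, (unit_comp_app E i V e).trans he⟩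
  haveI := hE
  haveI : (ClSub.quotMod (D i)).IsQuasicoherent := H26Ext.isQCoh_quotMod (D i)
  haveI : (CohB1.tensorMod E (ClSub.quotMod (D i))).IsQuasicoherent := H10Coh.TT.isQCoh_tensorMod _ _
  obtain ⟨m', hm'⟩ := H10Coh.surjective_app_of_epi π hU z
  refine ⟨m', ?_⟩
  have hp : pimap (D := D) E i U m' = z := (unit_comp_app E i U m').symm.trans hm'
  have h2 : ρ.app U m' = R.app U z := by
    rw [← hR, ← Category.assoc, Scheme.Modules.Hom.comp_app, ConcreteCategory.comp_apply, unit_comp_app, hp]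
  have h3 : ∀ (k : ℕ) (y : Γ(CohB1.tensorMod E (ClSub.quotMod (D i)), U)),
      (k • 𝟙 (CohB1.tensorMod E (ClSub.quotMod (D i)))).app U y = k • y := by
    intro k y
    induction k with
    | zero => rw [zero_smul, zero_smul]; rfl
    | succ k ih => rw [succ_nsmul, succ_nsmul, Scheme.Modules.Hom.add_app]; exact congrArg (· + y) ih
  rw [hp, h2, Nat.cast_smul_eq_nsmul, ← h3, ← hz]
  simp [G, Scheme.Modules.Hom.sub_app]

variable (K : ConnSh.Cx (LogNCD.der Λ) E nabla)

/-- The differential twisted by a pole of order `N`. -/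
abbrev DN (U : X.affineOpens) (β : Γ(Λ.L, U.1)) (N p : ℕ) : NN Λ E U.1 p →+ NN Λ E U.1 (p + 1) :=
  twistD (DU K U) (-((N : Γ(X, U.1)) • β)) p

theorem DN_apply (U : X.affineOpens) (β : Γ(Λ.L, U.1)) (N p : ℕ) (z : NN Λ E U.1 p) :
    DN K U β N p z = DU K U p z + wdg Γ(E, U.1) p (-((N : Γ(X, U.1)) • β)) z := rfl

theorem rho_DN {U V : X.affineOpens} (h : V.1 ≤ U.1) (β : Γ(Λ.L, U.1)) (N p : ℕ) (z : NN Λ E U.1 p) :
    rho K (p + 1) h (DN K U β N p z) = DN K V (rm Λ.L h β) N p (rho K p h z) := by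
  rw [DN_apply, DN_apply, map_add, DU_rho, rho_wdg, show rm Λ.L h (-((N : Γ(X, U.1)) • β)) =
    -((N : Γ(X, V.1)) • rm Λ.L h β) by
      simp only [rm, map_neg, Scheme.Modules.map_smul, map_natCast]]

theorem dlog_pow {U : X.Opens} {G : Γ(X, U)} {β : Γ(Λ.L, U)} (hG : dlog Λ U G = G • β) (N : ℕ) :
    dlog Λ U (G ^ N) = G ^ N • ((N : Γ(X, U)) • β) := by
  induction N with
  | zero => rw [pow_zero, dlog_one, Nat.cast_zero, zero_smul, smul_zero]
  | succ N ih => rw [pow_succ, dlog_mul, ih, hG, Nat.cast_succ, add_smul, one_smul]; module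

theorem DN_smul_pow {U : X.affineOpens} (p : ℕ) {G : Γ(X, U.1)} {β : Γ(Λ.L, U.1)} (hG : dlog Λ U.1 G = G • β)
    (hleib : ∀ (t : Γ(X, U.1)) (z : NN Λ E U.1 p),
      DU K U p (t • z) = t • DU K U p z + wdg Γ(E, U.1) p (dlog Λ U.1 t) z) (N : ℕ) (z : NN Λ E U.1 p) :
    DN K U β N p (G ^ N • z) = G ^ N • DU K U p z := by
  rw [DN_apply, hleib, dlog_pow hG, map_smul, wdg_smul_one, add_assoc, ← smul_add]
  have h : wdg Γ(E, U.1) p ((N : Γ(X, U.1)) • β) z + wdg Γ(E, U.1) p (-((N : Γ(X, U.1)) • β)) z = 0 := by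
    rw [← neg_smul, wdg_smul_one, wdg_smul_one, neg_smul, add_neg_cancel]
  rw [h, smul_zero, add_zero]

variable {U : X.Opens} {g : Fin r → Γ(X, U)} {dl : Fin r → Γ(Λ.L, U)} (hc : Chart Λ E U g dl)

include hc

theorem dlog_prod : dlog Λ U (∏ i, g i) = (∏ i, g i) • ∑ i, dl i := by
  have := dlog_prod_pow hc fun _ => 1
  simp only [pow_one, Nat.cast_one, one_smul] at this
  exact this.symm

theorem rs_prod_unit : ∃ u, u * rs (Chart.V_le hc.frame.affine g) (∏ i, g i) = 1 :=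
  (RingedSpace.isUnit_res_basicOpen X.toRingedSpace (∏ i, g i)).exists_left_inv

theorem rho_DN_eq_smul_DU (hd : OmegaSh.IsUniversal d) (N p : ℕ) (z : NN Λ E U p)
    (y : NN Λ E (Chart.V hc.frame.affine g).1 p)
    (hy : rs (Chart.V_le hc.frame.affine g) (∏ i, g i) ^ N • y =
      rho K p (U := ⟨U, hc.frame.affine⟩) (V := Chart.V hc.frame.affine g) (Chart.V_le hc.frame.affine g) z) :
    rho K (p + 1) (U := ⟨U, hc.frame.affine⟩) (V := Chart.V hc.frame.affine g) (Chart.V_le hc.frame.affine g)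
        (DN K ⟨U, hc.frame.affine⟩ (∑ i, dl i) N p z) =
      rs (Chart.V_le hc.frame.affine g) (∏ i, g i) ^ N • DU K (Chart.V hc.frame.affine g) p y := by
  rw [rho_DN, ← hy]
  refine DN_smul_pow K p ?_ (leib_open K _ (hc.span_V hd) p) N y
  have h1 := congrArg (rm Λ.L (Chart.V_le hc.frame.affine g)) (dlog_prod hc)
  rwa [rm_smul, dlog_res] at h1

theorem exists_pow_smul_eq_rho (p : ℕ) (y : NN Λ E (Chart.V hc.frame.affine g).1 p) :
    ∃ (N : ℕ) (z : NN Λ E U p), rs (Chart.V_le hc.frame.affine g) (∏ i, g i) ^ N • y =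
      rho K p (U := ⟨U, hc.frame.affine⟩) (V := Chart.V hc.frame.affine g) (Chart.V_le hc.frame.affine g) z := by
  classical
  obtain ⟨n, b, hb⟩ := hc.basL
  obtain ⟨nE, bE, hbE⟩ := hc.basE
  let h := Chart.V_le hc.frame.affine g
  let G' := rs h (∏ i, g i)
  let BV := (hbE.basis h).tensorProduct ((hb.basis h).exteriorPower p)
  rw [← BV.sum_repr y]
  refine Finset.sum_induction _ (fun y => ∃ (N : ℕ) (z : NN Λ E U p), G' ^ N • y =
      rho K p (U := ⟨U, hc.frame.affine⟩) (V := Chart.V hc.frame.affine g) h z) ?_ ?_ fun s _ => ?_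
  · rintro a b ⟨N, z, hz⟩ ⟨M, w, hw⟩
    refine ⟨N + M, (∏ i, g i) ^ M • z + (∏ i, g i) ^ N • w, ?_⟩
    rw [map_add, rho_smul, rho_smul, ← hz, ← hw, smul_add, smul_smul, smul_smul]
    simp only [rs, map_pow, G', h]
    rw [← pow_add, ← pow_add, add_comm M N]
  · exact ⟨0, 0, by rw [smul_zero, map_zero]⟩
  · have hsurj : ∀ a : Γ(X, X.basicOpen (∏ i, g i)), ∃ (N : ℕ) (c : Γ(X, U)),
        a * rs (X.basicOpen_le (∏ i, g i)) (∏ i, g i) ^ N = rs (X.basicOpen_le (∏ i, g i)) c := fun a => by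
      haveI := hc.frame.affine.isLocalization_basicOpen (∏ i, g i)
      obtain ⟨⟨c, ⟨_, N, rfl⟩⟩, hN⟩ := IsLocalization.surj (Submonoid.powers (∏ i, g i)) a
      refine ⟨N, c, ?_⟩
      rw [show rs (X.basicOpen_le (∏ i, g i)) (∏ i, g i) ^ N = rs (X.basicOpen_le (∏ i, g i)) ((∏ i, g i) ^ N) from
        (map_pow _ _ _).symm]
      exact hN
    obtain ⟨N, c, hN⟩ := hsurj (BV.repr y s)
    refine ⟨N, c • ((hbE.basis (le_refl U)).tensorProduct ((hb.basis (le_refl U)).exteriorPower p) s), ?_⟩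
    rw [rho_smul, smul_smul]
    have key : rho K p (U := ⟨U, hc.frame.affine⟩) (V := Chart.V hc.frame.affine g) h
        (((hbE.basis (le_refl U)).tensorProduct ((hb.basis (le_refl U)).exteriorPower p)) s) = BV s := by
      simp only [BV, Module.Basis.tensorProduct_apply', exteriorPower.basis_apply, exteriorPower.ιMulti_family,
        Function.comp_def, OBas.basis_apply]
      rw [rho_tmul]
      simp [rm]
    rw [key]
    congr 1
    rw [mul_comm]
    exact hN

variable (ρ : ∀ i : Fin r, E ⟶ CohB1.tensorMod E (ClSub.quotMod (D i)))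
  (hρ : ∀ i, LogNCD.IsResidue Λ E nabla i (ρ i))
  (hstar : ∀ i (j : ℕ), 1 ≤ j → ∀ m : Γ(E, U), ∃ m' : Γ(E, U),
    (ρ i).app U m' - (j : Γ(X, U)) • pimap (D := D) E i U m' = pimap (D := D) E i U m)

include hρ hstar

theorem good_DN (hd : OmegaSh.IsUniversal d) (N : ℕ) :
    Good (DN K ⟨U, hc.frame.affine⟩ (∑ i, dl i) N) (∏ i, g i ^ N) := by
  classical
  haveI := hc.finite_E
  haveI := hc.finite_L
  obtain ⟨nE, bE, hE⟩ := hc.basE
  obtain ⟨nL, bL, hL⟩ := hc.basL
  obtain ⟨V0, hV0, hle⟩ := hc.base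
  have hU := hc.frame.affine
  choose v hv using fun i => exists_lift_res (Λ := Λ) hU i hL
  have hdvd : ∀ i (a : Γ(X, U)), cls D i U a = 0 → g i ∣ a := fun i a ha => by
    have := mem_ideal_of_cls_eq_zero hU ha
    rwa [hc.frame.ideal i, Ideal.mem_span_singleton] at this
  have hexact : ∀ i t, g i ∣ v i (dlog Λ U t) := fun i t => hdvd i _ (by
    rw [hv, dlog_eq]; exact res_app_form Λ.res_ι i U _)
  have hvdl : ∀ i j, g i ∣ v i (dl j) - (if i = j then 1 else 0) := fun i j => hdvd i _ (by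
    rw [cls_sub, hv]
    by_cases h : i = j
    · subst h; rw [if_pos rfl, hc.frame.res_dl, sub_self]
    · rw [if_neg h, hc.frame.res_dl_ne j i (Ne.symm h), cls_zero, sub_zero])
  set β := ∑ i, dl i with hβ
  set a := -((N : Γ(X, U)) • β) with ha
  refine good_prod (nab := fun m => nab1 K ⟨U, hU⟩ m + m ⊗ₜ one a) (S := Set.range dl ∪ Set.range (dlog Λ U)) g dl v
    (fun _ => N) (span_dlog hd hc.frame hV0 hle) (dlog_one U) (dlog_mul U) (fun i => (hc.frame.smul_dl i).symm) hexact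
    (fun i s hs => ?_) hvdl (fun p t x => ?_) (fun p m s hs => ?_) (fun p x => ?_)
    (fun i p x => hc.eq_zero_of_smul (hc.regular i) p x) (fun i μ hμ m => ?_)
  · rcases hs with ⟨j, rfl⟩ | ⟨t, rfl⟩
    · exact ⟨if i = j then 1 else 0, by simpa [apply_ite ((↑) : ℤ → Γ(X, U))] using hvdl i j⟩
    · exact ⟨0, by simpa using hexact i t⟩
  · simp only [twistD, AddMonoidHom.add_apply, LinearMap.toAddMonoidHom_coe, hc.leib K hd, map_smul, smul_add]
    abel
  · simp only [twistD, AddMonoidHom.add_apply, LinearMap.toAddMonoidHom_coe, hc.closed K p m s hs, map_add,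
      LinearMap.add_apply, wdg_tmul, Conn.twedge_tmul, ← ha, hU]
  · refine hc.rho_V_injective K (p + 2) ?_
    obtain ⟨u, hu⟩ := rs_prod_unit hc
    set G' := rs (Chart.V_le hc.frame.affine g) (∏ i, g i)
    let y := u ^ N • rho K p (U := ⟨U, hU⟩) (V := Chart.V hc.frame.affine g) (Chart.V_le hc.frame.affine g) x
    have hy : G' ^ N • y = rho K p (U := ⟨U, hU⟩) (V := Chart.V hc.frame.affine g) (Chart.V_le hc.frame.affine g) x := by
      show G' ^ N • u ^ N • _ = _
      rw [smul_smul, ← mul_pow, mul_comm G' u, hu, one_pow, one_smul]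
    have h1 := rho_DN_eq_smul_DU K hc hd N p x y hy
    show rho K (p + 1 + 1) _ (DN K _ β N (p + 1) (DN K _ β N p x)) = _
    rw [rho_DN_eq_smul_DU K hc hd N (p + 1) _ _ h1.symm, DU_sq, smul_zero, map_zero]
  · obtain ⟨m', hm'⟩ := hstar i (N - μ) (by omega) m
    have hθ : pimap (D := D) E i U (th (v i) (nab1 K ⟨U, hU⟩ m')) = (ρ i).app U m' := by
      refine (pimap_th K i ⟨U, hU⟩ (v i) (hv i) _).trans ?_
      have h1 := congrArg (fun φ : Coh.toAb E ⟶ Coh.toAb (CohB1.tensorMod E (ClSub.quotMod (D i))) =>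
        φ.hom.app (op U) m') (hρ i)
      refine Eq.trans ?_ h1.symm
      show (KoszTw.tensorMap (𝟙 E) (Λ.res i)).app U _ = (KoszTw.tensorMap (𝟙 E) (Λ.res i)).app U _
      congr 1
      simp only [nab1, LinearEquiv.symm_apply_apply]
      exact congr($(congrArg (fun φ : CohB1.tensorMod E Λ.L ⟶ CohB1.tensorMod E Λ.L => φ.app U)
        K.iso1.inv_hom_id) (ConnSh.secApp nabla U m'))
    obtain ⟨e, he⟩ := pimap_ker E i hU (hc.frame.ideal i) hE
      (e := th (v i) (nab1 K ⟨U, hU⟩ m') - ((N - μ : ℕ) : Γ(X, U)) • m' - m)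
      (by rw [map_sub, map_sub, map_smul, hθ, hm', sub_self])
    obtain ⟨q, hq⟩ : g i ∣ v i β - 1 := by
      rw [hβ, map_sum, show (1 : Γ(X, U)) = ∑ j, (if i = j then (1 : Γ(X, U)) else 0) by simp, ← Finset.sum_sub_distrib]
      exact Finset.dvd_sum fun j _ => hvdl i j
    refine ⟨m', e - ((N : Γ(X, U)) * q) • m', ?_⟩
    have hva : v i a = -((N : Γ(X, U)) * (1 + g i * q)) := by
      rw [ha, map_neg, map_smul, smul_eq_mul, sub_eq_iff_eq_add'.1 hq]
    have hee := sub_eq_iff_eq_add'.1 (sub_eq_iff_eq_add'.1 he)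
    rw [th_add', th_tmul_one, hva, hee, Nat.cast_sub hμ.le]
    module

/-- Restriction to the complement is surjective on cocycle classes. -/
theorem surj_on_chart (hd : OmegaSh.IsUniversal d) :
    (∀ y : NN Λ E (Chart.V hc.frame.affine g).1 0, DU K (Chart.V hc.frame.affine g) 0 y = 0 →
      ∃ z, DU K ⟨U, hc.frame.affine⟩ 0 z = 0 ∧
        y = rho K 0 (U := ⟨U, hc.frame.affine⟩) (V := Chart.V hc.frame.affine g) (Chart.V_le hc.frame.affine g) z) ∧
    ∀ (p : ℕ) (y : NN Λ E (Chart.V hc.frame.affine g).1 (p + 1)), DU K (Chart.V hc.frame.affine g) (p + 1) y = 0 →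
      ∃ z b, DU K ⟨U, hc.frame.affine⟩ (p + 1) z = 0 ∧ y =
        rho K (p + 1) (U := ⟨U, hc.frame.affine⟩) (V := Chart.V hc.frame.affine g) (Chart.V_le hc.frame.affine g) z +
          DU K (Chart.V hc.frame.affine g) p b := by
  obtain ⟨u, hu⟩ := rs_prod_unit hc
  set h := Chart.V_le hc.frame.affine g
  set G' := rs h (∏ i, g i) with hG'
  have hcan : ∀ (N q : ℕ) (a b : NN Λ E (Chart.V hc.frame.affine g).1 q), G' ^ N • a = G' ^ N • b → a = b := by
    intro N q a b hab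
    have := congrArg (fun t => u ^ N • t) hab
    simpa only [smul_smul, ← mul_pow, hu, one_pow, one_smul] using this
  have hcl : ∀ (q : ℕ) (y : NN Λ E (Chart.V hc.frame.affine g).1 q), DU K (Chart.V hc.frame.affine g) q y = 0 →
      ∀ (N : ℕ) (z : NN Λ E U q), G' ^ N • y =
        rho K q (U := ⟨U, hc.frame.affine⟩) (V := Chart.V hc.frame.affine g) h z →
        DN K ⟨U, hc.frame.affine⟩ (∑ i, dl i) N q z = 0 := fun q y hy N z hz =>
    hc.rho_V_injective K (q + 1) (by rw [rho_DN_eq_smul_DU K hc hd N q z y hz, hy, smul_zero, map_zero])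
  have hpow : ∀ N, rs h (∏ i, g i ^ N) = G' ^ N := fun N => by rw [Finset.prod_pow]; exact map_pow _ _ _
  constructor
  · intro y hy
    obtain ⟨N, z, hz⟩ := exists_pow_smul_eq_rho K hc 0 y
    obtain ⟨e, he⟩ := (good_DN K hc ρ hρ hstar hd N).1 z (by rw [hcl 0 y hy N z hz]; exact Submodule.zero_mem _)
    rw [LinearMap.lsmul_apply] at he
    subst he
    have hye := hcan N 0 _ _ (hz.trans ((rho_smul K 0 _ _ _).trans (congrArg (· • _) (hpow N))))
    exact ⟨e, hc.rho_V_injective K 1 (by rw [DU_rho, ← hye, hy, map_zero]), hye⟩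
  · intro p y hy
    obtain ⟨N, z, hz⟩ := exists_pow_smul_eq_rho K hc (p + 1) y
    obtain ⟨a, e, he⟩ := (good_DN K hc ρ hρ hstar hd N).2 p z (by
      rw [hcl (p + 1) y hy N z hz]; exact Submodule.zero_mem _)
    rw [LinearMap.lsmul_apply] at he
    obtain rfl : z = DN K ⟨U, hc.frame.affine⟩ (∑ i, dl i) N p a + (∏ i, g i ^ N) • e := by rw [he]; abel
    let b := u ^ N • rho K p (U := ⟨U, hc.frame.affine⟩) (V := Chart.V hc.frame.affine g) h a
    have hb : G' ^ N • b = rho K p (U := ⟨U, hc.frame.affine⟩) (V := Chart.V hc.frame.affine g) h a := by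
      show G' ^ N • u ^ N • _ = _
      rw [smul_smul, ← mul_pow, mul_comm G' u, hu, one_pow, one_smul]
    have hye : y = rho K (p + 1) (U := ⟨U, hc.frame.affine⟩) (V := Chart.V hc.frame.affine g) h e +
        DU K (Chart.V hc.frame.affine g) p b := by
      refine hcan N (p + 1) _ _ ?_
      rw [hz, smul_add, ← rho_DN_eq_smul_DU K hc hd N p a b hb, map_add, rho_smul, hpow]
      exact add_comm _ _
    refine ⟨e, b, hc.rho_V_injective K (p + 1 + 1) ?_, hye⟩
    rw [hye, map_add, DU_sq, add_zero] at hy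
    rw [DU_rho, hy, map_zero]

/-- ... and injective. -/
theorem inj_on_chart (hd : OmegaSh.IsUniversal d) (p : ℕ)
    (z : NN Λ E U (p + 1)) (y : NN Λ E (Chart.V hc.frame.affine g).1 p)
    (hy : rho K (p + 1) (U := ⟨U, hc.frame.affine⟩) (V := Chart.V hc.frame.affine g) (Chart.V_le hc.frame.affine g) z =
      DU K (Chart.V hc.frame.affine g) p y) : ∃ a, z = DU K ⟨U, hc.frame.affine⟩ p a := by
  obtain ⟨u, hu⟩ := rs_prod_unit hc
  obtain ⟨N, a, ha⟩ := exists_pow_smul_eq_rho K hc p y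
  set DV := DN K ⟨U, hc.frame.affine⟩ (∑ i, dl i) N
  have h1 : DV p a = (∏ i, g i) ^ N • z :=
    hc.rho_V_injective K (p + 1) (by
      rw [rho_DN_eq_smul_DU K hc hd N p a y ha, rho_smul, hy]
      exact congrArg (· • _) (map_pow _ _ _).symm)
  have hDN : ∀ q (e : NN Λ E U q), DV q ((∏ i, g i) ^ N • e) =
      (∏ i, g i) ^ N • DU K ⟨U, hc.frame.affine⟩ q e :=
    fun q => DN_smul_pow K (U := ⟨U, hc.frame.affine⟩) q (dlog_prod hc) (hc.leib K hd q) N
  have hcan : ∀ q (a b : NN Λ E U q), (∏ i, g i) ^ N • a = (∏ i, g i) ^ N • b → a = b := fun q a b hab =>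
    sub_eq_zero.1 (hc.eq_zero_of_smul (hc.regular_prod.pow N) q _ (by rw [smul_sub, hab, sub_self]))
  have hsq : ∀ q (x : NN Λ E U q), DV (q + 1) (DV q x) = 0 := fun q x => by
    refine hc.rho_V_injective K (q + 2) ?_
    let y := u ^ N • rho K q (U := ⟨U, hc.frame.affine⟩) (V := Chart.V hc.frame.affine g) (Chart.V_le hc.frame.affine g) x
    have h2 := rho_DN_eq_smul_DU K hc hd N q x y (by
      show rs _ _ ^ N • u ^ N • _ = _
      rw [smul_smul, ← mul_pow, mul_comm _ u, hu, one_pow, one_smul])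
    show rho K (q + 1 + 1) _ (DV (q + 1) (DV q x)) = _
    rw [rho_DN_eq_smul_DU K hc hd N (q + 1) _ _ h2.symm, DU_sq, smul_zero, map_zero]
  have hG : G (M := Γ(E, U)) (L := Γ(Λ.L, U)) ((∏ i, g i) ^ N) (p + 1) =
      G (M := Γ(E, U)) (L := Γ(Λ.L, U)) (∏ i, g i ^ N) (p + 1) := by rw [Finset.prod_pow]
  have hmem : DV p a ∈ G (M := Γ(E, U)) (L := Γ(Λ.L, U)) (∏ i, g i ^ N) (p + 1) := hG ▸ ⟨z, h1.symm⟩
  cases p with
  | zero =>
    obtain ⟨e, he⟩ := (good_DN K hc ρ hρ hstar hd N).1 a hmem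
    rw [LinearMap.lsmul_apply, Finset.prod_pow] at he
    subst he
    exact ⟨e, (hcan _ _ _ ((hDN 0 e).symm.trans h1)).symm⟩
  | succ q =>
    obtain ⟨b, e, he⟩ := (good_DN K hc ρ hρ hstar hd N).2 q a hmem
    rw [LinearMap.lsmul_apply, Finset.prod_pow] at he
    obtain rfl : a = DV q b + (∏ i, g i) ^ N • e := by rw [he]; abel
    rw [map_add, hDN, hsq, zero_add] at h1
    exact ⟨e, (hcan _ _ _ h1).symm⟩

end Groth.Agent.H27LogVan
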