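import Groth.Agent.H27LogVan.Sub
import Groth.Agent.H27LogVan.Local
import Groth.Agent.H27LogVan.Terms
import Groth.Agent.H22Alg.ESZCM
import Groth.Agent.H4Depth.Regular
import Groth.Agent.H19Grp.RegularSmooth
import Groth.Agent.H12Pic.FinKer.Ample
import Groth.Agent.H10Coh.AffineAmple
import Mathlib

/-!
# Inputs for the vanishing of logarithmic de Rham cohomology below the dimension
-/

set_option autoImplicit false
set_option backward.isDefEq.respectTransparency false
set_option backward.isDefEq.respectTransparency.types false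
set_option linter.style.haveILetI false

universe u

noncomputable section

open CategoryTheory CategoryTheory.Limits AlgebraicGeometry TopologicalSpace Opposite TensorProduct
open exteriorPower

namespace Groth.Agent.H27LogVan

open Groth.Agent.H27LogNCD Groth.Agent.H27LogTwist

variable {X S : Scheme.{u}} {f : X ⟶ S} {Ω : X.Modules} {d : OmegaSh.Der f Ω} {r : ℕ}
  {D : Fin r → X.IdealSheafData} {Λ : LogNCD.LogMod d D} {E : X.Modules}
  {nabla : Coh.toAb E ⟶ Coh.toAb (CohB1.tensorMod E Λ.L)}

/-- Away from nonpositive integers the residues are locally surjective, on any affine open. -/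
theorem exists_preimage_residue_add (hE : E.IsQuasicoherent) (i : Fin r)
    (ρ : E ⟶ CohB1.tensorMod E (ClSub.quotMod (D i)))
    (R : CohB1.tensorMod E (ClSub.quotMod (D i)) ⟶ CohB1.tensorMod E (ClSub.quotMod (D i)))
    (hR : (SecTwist.unitorR E).inv ≫ KoszTw.tensorMap (𝟙 E) (ClSub.toSubscheme (D i)) ≫ R = ρ)
    (j : ℕ) (hiso : IsIso (R + j • 𝟙 (CohB1.tensorMod E (ClSub.quotMod (D i)))))
    {U : X.Opens} (hU : IsAffineOpen U) (m : Γ(E, U)) :
    ∃ m' : Γ(E, U), ρ.app U m' + (j : Γ(X, U)) • pimap (D := D) E i U m' = pimap (D := D) E i U m := by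
  let G := R + j • 𝟙 (CohB1.tensorMod E (ClSub.quotMod (D i)))
  obtain ⟨z, hz⟩ := (ConcreteCategory.bijective_of_isIso (G.app U)).2 (pimap (D := D) E i U m)
  let π : E ⟶ CohB1.tensorMod E (ClSub.quotMod (D i)) :=
    (SecTwist.unitorR E).inv ≫ KoszTw.tensorMap (𝟙 E) (ClSub.toSubscheme (D i))
  haveI : Epi π := H11Tilde.epi_of_locally_surjective π fun W t x hx => by
    obtain ⟨V, hV, hxV, e, he⟩ := pimap_locally_surjective (D := D) E i (U := W) t x hx
    exact ⟨V, hV, hxV, e, (unit_comp_app E i V e).trans he⟩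
  haveI := hE
  haveI : (ClSub.quotMod (D i)).IsQuasicoherent := H26Ext.isQCoh_quotMod (D i)
  haveI : (CohB1.tensorMod E (ClSub.quotMod (D i))).IsQuasicoherent := H10Coh.TT.isQCoh_tensorMod _ _
  obtain ⟨m', hm'⟩ := H10Coh.surjective_app_of_epi π hU z
  refine ⟨m', ?_⟩
  have hp : pimap (D := D) E i U m' = z := (unit_comp_app E i U m').symm.trans hm'
  have h2 : ρ.app U m' = R.app U z := by
    rw [← hR, ← Category.assoc, Scheme.Modules.Hom.comp_app, ConcreteCategory.comp_apply, unit_comp_app, hp]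
  have h3 : ∀ (k : ℕ) (y : Γ(CohB1.tensorMod E (ClSub.quotMod (D i)), U)),
      (k • 𝟙 (CohB1.tensorMod E (ClSub.quotMod (D i)))).app U y = k • y := by
    intro k y
    induction k with
    | zero => rw [zero_smul, zero_smul]; rfl
    | succ k ih => rw [succ_nsmul, succ_nsmul, Scheme.Modules.Hom.add_app]; exact congrArg (· + y) ih
  rw [hp, h2, Nat.cast_smul_eq_nsmul, ← h3, ← hz]
  simp [G, Scheme.Modules.Hom.add_app]

/-- The terms of the de Rham complex are finite locally free. -/
theorem isFinLocFree_term (K : ConnSh.Cx (LogNCD.der Λ) E nabla) (hd : OmegaSh.IsUniversal d)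
    (hD : LogNCD.IsNCD D f) [Smooth f] (hE : FlatMod.IsFinLocFree E) (p : ℕ) :
    FlatMod.IsFinLocFree (K.term p) := by
  classical
  refine H8Props.FinLocFree.isFinLocFree_of_sections _ (isQCoh_term K hd hD hE p) fun x => ?_
  obtain ⟨U, g, dl, hxU, -, hc⟩ := exists_chart_near hd hD Λ hE ⊤ x trivial
  obtain ⟨nE, bE, hbE⟩ := hc.basE
  obtain ⟨nL, bL, hbL⟩ := hc.basL
  let B := ((hbE.basis (le_refl U)).tensorProduct ((hbL.basis (le_refl U)).exteriorPower p)).map
    (K.loc p ⟨U, hc.frame.affine⟩).symm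
  haveI : Module.Free Γ(X, U) Γ(K.term p, U) := Module.Free.of_basis B
  haveI : Module.Finite Γ(X, U) Γ(K.term p, U) := Module.Finite.of_basis B
  exact ⟨U, hc.frame.affine, hxU, Module.finitePresentation_of_projective _ _, inferInstance⟩

/-- The depth of a vector bundle at a closed point of a smooth variety is its dimension. -/
theorem depth_stalk_ge {k : Type u} [Field k] {Y : Scheme.{u}} (g : Y ⟶ Spec (CommRingCat.of k)) [Smooth g]
    [IrreducibleSpace Y] (n : ℕ) (hn : topologicalKrullDim Y = n) {M : Y.Modules} (hM : FlatMod.IsFinLocFree M)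
    (x : Y) (hx : IsClosed ({x} : Set Y)) :
    (n : ℕ∞) ≤ LocCoh.depth (Y.presheaf.stalk x) (M.presheaf.stalk x) := by
  haveI := LocallyOfFiniteType.isLocallyNoetherian g
  haveI := H19Grp.isRegularLocalRing_stalk_of_smooth g x
  have h1 := H4Depth.depth_self_eq_ringKrullDim_of_regular (Y.presheaf.stalk x)
  rw [H12Pic.FinKer.ringKrullDim_stalk_closed g hx, hn] at h1
  refine le_trans ?_ (H22Alg.ESZCM.depth_le_finLocFree hM x)
  have h2 : ((n : ℕ∞) : WithBot ℕ∞) = ((LocCoh.depth (Y.presheaf.stalk x) (Y.presheaf.stalk x) : ℕ∞) : WithBot ℕ∞) :=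
    h1.symm
  exact (WithBot.coe_injective h2).le

end Groth.Agent.H27LogVan
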