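import Groth.Agent.H27LogVan.Global
import Groth.Agent.H27LogTwist.Apply
import Groth.Agent.H27LogTwist.StalkQis
import Mathlib

/-!
# The subcomplex `K(-mB)` of the de Rham complex of a logarithmic connection
-/

set_option autoImplicit false
set_option linter.style.haveILetI false
set_option backward.isDefEq.respectTransparency false
set_option backward.isDefEq.respectTransparency.types false

universe u

noncomputable section

open CategoryTheory CategoryTheory.Limits AlgebraicGeometry TopologicalSpace Opposite TensorProduct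

namespace Groth.Agent.H27LogVan

open Groth.Agent.H27LogNCD Groth.Agent.H27LogTwist

section powers

variable {X : Scheme.{u}} (I : X.IdealSheafData)

/-- `I^{⊗ m} → O`. -/
def kap : ∀ m : ℕ, CohB1.tensorPow (ClSub.idealMod I) m ⟶ Coh.structureModule X
  | 0 => 𝟙 _
  | m + 1 => KoszTw.tensorMap (kap m) (ClSub.idealModι I) ≫ (SecTwist.unitorR _).hom

theorem kap_spow {V : X.Opens} (σ : Γ(ClSub.idealMod I, V)) :
    ∀ m : ℕ, (show Γ(X, V) from (kap I m).app V (H11Ample.spow σ m)) = OmegaSh.idealSect I V σ ^ m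
  | 0 => (pow_zero _).symm
  | m + 1 => by
    show (SecTwist.unitorR (Coh.structureModule X)).hom.app V ((KoszTw.tensorMap (kap I m) (ClSub.idealModι I)).app V
      (SecTwist.tmul _ _ V (H11Ample.spow σ m) σ)) = _
    rw [KoszTw.tensorMap_tmul]
    refine (SecTwist.unitorR_tmul _ V _ _).trans ?_
    rw [pow_succ', ← kap_spow σ m]
    rfl

/-- `G ⊗ I^{⊗ m} → G`. -/
def tw (G : X.Modules) (m : ℕ) : CohB1.tensorMod G (CohB1.tensorPow (ClSub.idealMod I) m) ⟶ G :=
  KoszTw.tensorMap (𝟙 G) (kap I m) ≫ (SecTwist.unitorR G).hom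

theorem tw_tm (G : X.Modules) (m : ℕ) {V : X.Opens} (σ : Γ(ClSub.idealMod I, V)) (e : Γ(G, V)) :
    (tw I G m).app V (H11Ample.tm e (H11Ample.spow σ m)) = OmegaSh.idealSect I V σ ^ m • e := by
  show (SecTwist.unitorR G).hom.app V ((KoszTw.tensorMap (𝟙 G) (kap I m)).app V
    (SecTwist.tmul G (CohB1.tensorPow (ClSub.idealMod I) m) V e (H11Ample.spow σ m))) = _
  rw [KoszTw.tensorMap_tmul]
  refine (SecTwist.unitorR_tmul G V _ _).trans ?_
  rw [← kap_spow I σ m]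
  rfl

/-- Sections of `G ⊗ N` are locally multiples of a generator of `N`. -/
theorem exists_tm_locally (G N : X.Modules) {U : X.Opens} {n : Γ(N, U)} (hn : H11Tilde.IsGen N n)
    (z : Γ(CohB1.tensorMod G N, U)) (x : X) (hx : x ∈ U) :
    ∃ (V : X.Opens) (h : V ≤ U), x ∈ V ∧ ∃ e : Γ(G, V), rm _ h z = H11Ample.tm e (rm N h n) := by
  obtain ⟨V, h, hxV, t, ht⟩ := exists_locally_pre G N z x hx
  refine ⟨V, h, hxV, ?_⟩
  suffices ∃ e : Γ(G, V), ((SecTwist.toTensor G N).app (op V)).hom t = H11Ample.tm e (rm N h n) by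
    obtain ⟨e, he⟩ := this
    exact ⟨e, by rw [← he, ht]⟩
  clear ht
  induction t using TensorProduct.induction_on with
  | zero =>
    refine ⟨0, ?_⟩
    rw [map_zero]
    exact (zero_smul Γ(X, V) _).symm.trans ((H11Ample.tm_smul_left (0 : Γ(X, V)) (0 : Γ(G, V)) (rm N h n)).symm.trans
      (congrArg (fun a => H11Ample.tm a (rm N h n)) (smul_zero _)))
  | tmul a b =>
    obtain ⟨β, hβ⟩ := H11Ample.exists_coeff (hn.res h) (show Γ(N, V) from b)
    refine ⟨β • (show Γ(G, V) from a), ?_⟩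
    change H11Ample.tm (show Γ(G, V) from a) (show Γ(N, V) from b) = _
    rw [H11Ample.tm_smul_left, hβ, H11Ample.tm_smul_right]
  | add t t' ht ht' =>
    obtain ⟨e, he⟩ := ht
    obtain ⟨e', he'⟩ := ht'
    exact ⟨e + e', by rw [map_add, he, he', H11Ample.tm_add_left]⟩

end powers

variable {X S : Scheme.{u}} {f : X ⟶ S} {Ω : X.Modules} {d : OmegaSh.Der f Ω} {r : ℕ}
  {D : Fin r → X.IdealSheafData} {Λ : LogNCD.LogMod d D} {E : X.Modules}
  {nabla : Coh.toAb E ⟶ Coh.toAb (CohB1.tensorMod E Λ.L)}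

/-- The twisting data of a divisor `∑ μ_j D_j` with invertible ideal. -/
structure Setting (Λ : LogNCD.LogMod d D) (E : X.Modules) (μ : Fin r → ℕ) : Prop where
  univ : OmegaSh.IsUniversal d
  smooth : Smooth f
  ncd : LogNCD.IsNCD D f
  locFree : FlatMod.IsFinLocFree E
  inv : PicF.IsInvertible (ClSub.idealMod (∏ j, D j ^ μ j))

variable {μ : Fin r → ℕ}

theorem Setting.exists_chart (hs : Setting Λ E μ) (W : X.Opens) (x : X) (hx : x ∈ W) :
    ∃ (U : X.Opens) (g : Fin r → Γ(X, U)) (dl : Fin r → Γ(Λ.L, U)) (σ : Γ(ClSub.idealMod (∏ j, D j ^ μ j), U)),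
      x ∈ U ∧ U ≤ W ∧ Chart Λ E U g dl ∧ H11Tilde.IsGen (ClSub.idealMod (∏ j, D j ^ μ j)) σ ∧
        OmegaSh.idealSect (∏ j, D j ^ μ j) U σ = ∏ j, g j ^ μ j := by
  classical
  haveI := hs.smooth
  set I := ∏ j, D j ^ μ j with hI
  obtain ⟨We, e, hxe, he⟩ := H11Ample.exists_gen hs.inv x
  obtain ⟨U, g, dl, hxU, hle, hc⟩ := exists_chart_near hs.univ hs.ncd Λ hs.locFree (W ⊓ We) x ⟨hx, hxe⟩
  have hIU : I.ideal ⟨U, hc.frame.affine⟩ = Ideal.span {∏ j, g j ^ μ j} :=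
    ideal_prod_pow D μ Finset.univ ⟨U, hc.frame.affine⟩ g hc.frame.ideal
  obtain ⟨σ, hσ⟩ := (H29Blow.mem_ideal_iff_exists_idealSect I hc.frame.affine _).1
    (hIU.ge (Ideal.mem_span_singleton_self _))
  have heU := he.res (show U ≤ We from fun y hy => (hle hy).2)
  obtain ⟨a, ha⟩ := H11Ample.exists_coeff heU σ
  obtain ⟨b, hb⟩ := Ideal.mem_span_singleton'.1 (hIU.le
    ((H29Blow.mem_ideal_iff_exists_idealSect I hc.frame.affine _).2
      ⟨(ClSub.idealMod I).presheaf.map (homOfLE (show U ≤ We from fun y hy => (hle hy).2)).op e, rfl⟩))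
  have h1 : (a * b) * (∏ j, g j ^ μ j) = 1 * ∏ j, g j ^ μ j := by
    rw [one_mul, mul_assoc, hb]
    refine (H29Blow.idealSect_smul I U a _).symm.trans ?_
    rw [← ha, hσ]
  have hab : a * b = 1 := (IsRegular.prod fun j _ => (hc.regular j).pow _).right h1
  refine ⟨U, g, dl, σ, hxU, fun y hy => (hle hy).1, hc, ?_, hσ⟩
  rw [ha]
  exact H11Tilde.IsGen.smul heU (IsUnit.of_mul_eq_one b hab)

variable (K : ConnSh.Cx (LogNCD.der Λ) E nabla) (μ) (m : ℕ)

/-- The `p`-th term of `K(-mB)` as a module. -/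
abbrev twTerm (p : ℕ) : X.Modules :=
  CohB1.tensorMod (K.term p) (CohB1.tensorPow (ClSub.idealMod (∏ j, D j ^ μ j)) m)

/-- `K(-mB)^p → K^p`. -/
def fX (p : ℕ) : Coh.toAb (twTerm μ K m p) ⟶ K.K.X p :=
  (SheafOfModules.toSheaf X.ringCatSheaf).map (tw (∏ j, D j ^ μ j) (K.term p) m) ≫ (K.iso p).inv

theorem TT_fX (p : ℕ) (U : X.affineOpens) (σ : Γ(ClSub.idealMod (∏ j, D j ^ μ j), U.1)) (e : Γ(K.term p, U.1)) :
    TT K U p ((fX μ K m p).hom.app (op U.1) (H11Ample.tm e (H11Ample.spow σ m))) =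
      OmegaSh.idealSect (∏ j, D j ^ μ j) U.1 σ ^ m • K.loc p U e := by
  show K.loc p U ((K.iso p).hom.hom.app (op U.1) ((K.iso p).inv.hom.app (op U.1)
    ((tw (∏ j, D j ^ μ j) (K.term p) m).app U.1 (H11Ample.tm e (H11Ample.spow σ m))))) = _
  rw [iso_hom_inv, tw_tm, map_smul]

variable {μ} (hs : Setting Λ E μ)
include hs

theorem exists_rep (p : ℕ) (W : X.Opens) (s : (Coh.toAb (twTerm μ K m p)).obj.obj (op W)) (x : X) (hx : x ∈ W) :
    ∃ (U : X.Opens) (g : Fin r → Γ(X, U)) (dl : Fin r → Γ(Λ.L, U)) (hc : Chart Λ E U g dl) (h : U ≤ W)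
      (σ : Γ(ClSub.idealMod (∏ j, D j ^ μ j), U)) (e : Γ(K.term p, U)),
      x ∈ U ∧ OmegaSh.idealSect (∏ j, D j ^ μ j) U σ ^ m = ∏ j, g j ^ (μ j * m) ∧
        (Coh.toAb (twTerm μ K m p)).obj.map (homOfLE h).op s = H11Ample.tm e (H11Ample.spow σ m) := by
  obtain ⟨U₁, g₁, dl₁, σ₁, hx₁, hle₁, -, hσ₁, -⟩ := hs.exists_chart W x hx
  obtain ⟨V, hV, hxV, e, he⟩ := exists_tm_locally (K.term p) _ (H11Ample.isGen_spow hσ₁ m)
    (rm (twTerm μ K m p) hle₁ s) x hx₁
  obtain ⟨U, g, dl, σ, hxU, hle, hc, hσ, hσc⟩ := hs.exists_chart V x hxV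
  obtain ⟨a, ha⟩ := H11Ample.exists_coeff (H11Ample.isGen_spow hσ m)
    (rm _ hle (rm _ hV (H11Ample.spow σ₁ m)))
  refine ⟨U, g, dl, hc, (hle.trans hV).trans hle₁, σ, a • rm (K.term p) hle e, hxU, ?_, ?_⟩
  · rw [hσc, ← Finset.prod_pow]
    exact Finset.prod_congr rfl fun j _ => (pow_mul _ _ _).symm
  · have h1 := congrArg (rm (twTerm μ K m p) hle) he
    simp only [rm] at h1 ha ⊢
    rw [H11Ample.tm_res, ha, H11Ample.tm_smul_right, ← H11Ample.tm_smul_left, map_mapM, map_mapM] at h1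
    exact h1

theorem hinj_fX (p : ℕ) (W : X.Opens) (s : (Coh.toAb (twTerm μ K m p)).obj.obj (op W))
    (h0 : (fX μ K m p).hom.app (op W) s = 0) (x : X) (hx : x ∈ W) :
    ∃ (V : X.Opens) (_ : x ∈ V) (i : V ≤ W), (Coh.toAb (twTerm μ K m p)).obj.map (homOfLE i).op s = 0 := by
  obtain ⟨U, g, dl, hc, h, σ, e, hxU, hσ, he⟩ := exists_rep K m hs p W s x hx
  refine ⟨U, hxU, h, ?_⟩
  have h1 := TT_fX μ K m p ⟨U, hc.frame.affine⟩ σ e
  rw [← he, natural (fX μ K m p) h s, h0, map_zero, TT_zero, hσ] at h1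
  have h2 : K.loc p ⟨U, hc.frame.affine⟩ e = 0 :=
    hc.eq_zero_of_smul (IsRegular.prod fun j _ => (hc.regular j).pow _) p _ h1.symm
  rw [he, (K.loc p ⟨U, hc.frame.affine⟩).map_eq_zero_iff.1 h2]
  exact (congrArg (fun a => H11Ample.tm a (H11Ample.spow σ m)) (zero_smul Γ(X, U) (0 : Γ(K.term p, U))).symm).trans
    ((H11Ample.tm_smul_left _ _ _).trans (zero_smul _ _))

theorem mono_fX (p : ℕ) : Mono (fX μ K m p) := by
  refine Preadditive.mono_of_cancel_zero _ fun {H} u hu => ?_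
  refine CategoryTheory.Sheaf.hom_ext (NatTrans.ext (funext fun W => ?_))
  refine AddCommGrpCat.hom_ext (AddMonoidHom.ext fun s => ?_)
  choose V hxV hVW hV using fun x : W.unop => hinj_fX K m hs p W.unop (u.hom.app W s)
    (by rw [← ConcreteCategory.comp_apply]
        exact congr($(congrArg (fun φ : H ⟶ K.K.X p => φ.hom.app W) hu) s)) x.1 x.2
  refine TopCat.Sheaf.eq_of_locally_eq' ⟨(Coh.toAb (twTerm μ K m p)).obj, (Coh.toAb (twTerm μ K m p)).property⟩ V W.unop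
    (fun x => homOfLE (hVW x)) (fun y hy => Opens.mem_iSup.mpr ⟨⟨y, hy⟩, hxV ⟨y, hy⟩⟩) _ _ fun x => ?_
  exact (hV x).trans (map_zero _).symm

/-- `d` preserves `K(-mB)`. -/
theorem fX_d_cokernel (p : ℕ) :
    (fX μ K m p ≫ K.K.d p (p + 1)) ≫ cokernel.π (fX μ K m (p + 1)) = 0 := by
  refine CategoryTheory.Sheaf.hom_ext (NatTrans.ext (funext fun W => ?_))
  refine AddCommGrpCat.hom_ext (AddMonoidHom.ext fun s => ?_)
  let C := cokernel (fX μ K m (p + 1))
  let π : K.K.X (p + 1) ⟶ C := cokernel.π (fX μ K m (p + 1))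
  show π.hom.app W ((K.K.d p (p + 1)).hom.app W ((fX μ K m p).hom.app W s)) = 0
  choose U g dl hc h σ e hxU hσ he using fun x : W.unop => exists_rep K m hs p W.unop s x.1 x.2
  refine TopCat.Sheaf.eq_of_locally_eq' ⟨C.obj, C.property⟩ U W.unop (fun x => homOfLE (h x))
    (fun y hy => Opens.mem_iSup.mpr ⟨⟨y, hy⟩, hxU ⟨y, hy⟩⟩) _ _ fun x => ?_
  refine Eq.trans ?_ (map_zero _).symm
  let Ua : X.affineOpens := ⟨U x, (hc x).frame.affine⟩
  refine ((natural π (h x) _).symm.trans (congrArg (π.hom.app (op (U x))) ?_)).trans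
    (b := π.hom.app (op (U x)) ((fX μ K m (p + 1)).hom.app (op (U x))
      (H11Ample.tm ((K.loc (p + 1) Ua).symm (DU K Ua p (K.loc p Ua (e x)) +
        wdg Γ(E, U x) p (∑ j, ((μ j * m : ℕ) : Γ(X, U x)) • dl x j) (K.loc p Ua (e x)))) (H11Ample.spow (σ x) m)))) ?_
  · rw [← natural (K.K.d p (p + 1)) (h x), ← natural (fX μ K m p) (h x), he x]
    refine (TT_bijective K Ua (p + 1)).1 ?_
    haveI := hs.smooth
    rw [TT_d, TT_fX μ K m p Ua, TT_fX μ K m (p + 1) Ua, LinearEquiv.apply_symm_apply, hσ x, (hc x).leib K hs.univ,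
      ← dlog_prod_pow (hc x) fun j => μ j * m, wdg_smul_one, smul_add]
  · rw [← ConcreteCategory.comp_apply]
    exact congr($(congrArg (fun φ : Coh.toAb (twTerm μ K m (p + 1)) ⟶ C => φ.hom.app (op (U x)))
      (cokernel.condition (fX μ K m (p + 1)))) _)

/-- The differential of `K(-mB)`. -/
def subD (p : ℕ) : Coh.toAb (twTerm μ K m p) ⟶ Coh.toAb (twTerm μ K m (p + 1)) :=
  haveI := mono_fX K m hs (p + 1)
  Abelian.monoLift (fX μ K m (p + 1)) _ (fX_d_cokernel K m hs p)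

theorem subD_fX (p : ℕ) : subD K m hs p ≫ fX μ K m (p + 1) = fX μ K m p ≫ K.K.d p (p + 1) :=
  haveI := mono_fX K m hs (p + 1)
  Abelian.monoLift_comp _ _ _

/-- `K(-mB)`. -/
def subK : CochainComplex (Sheaf (Opens.grothendieckTopology X) AddCommGrpCat.{u}) ℕ :=
  CochainComplex.of (fun p => Coh.toAb (twTerm μ K m p)) (subD K m hs) fun p => by
    haveI := mono_fX K m hs (p + 1 + 1)
    rw [← cancel_mono (fX μ K m (p + 1 + 1)), Category.assoc, subD_fX, ← Category.assoc, subD_fX, Category.assoc,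
      K.K.d_comp_d, comp_zero, zero_comp]

/-- The inclusion. -/
def subι : subK K m hs ⟶ K.K where
  f p := fX μ K m p
  comm' p q hpq := by
    obtain rfl : p + 1 = q := hpq
    show fX μ K m p ≫ K.K.d p (p + 1) = (subK K m hs).d p (p + 1) ≫ fX μ K m (p + 1)
    simp only [subK, CochainComplex.of_d]
    exact (subD_fX K m hs p).symm

/-- Without residues `0, -1, -2, …` the inclusion is a quasi-isomorphism. -/
theorem quasiIso_subι (ρ : ∀ i : Fin r, E ⟶ CohB1.tensorMod E (ClSub.quotMod (D i)))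
    (hρ : ∀ i, LogNCD.IsResidue Λ E nabla i (ρ i))
    (hbang : ∀ i (j : ℕ) (U : X.Opens), IsAffineOpen U → ∀ e : Γ(E, U), ∃ e' : Γ(E, U),
      (ρ i).app U e' + (j : Γ(X, U)) • pimap (D := D) E i U e' = pimap (D := D) E i U e) :
    QuasiIso (subι K m hs) := by
  haveI := hs.smooth
  refine quasiIso_of_local _ (fun p W s h0 x hx => hinj_fX K m hs p W s h0 x hx) fun p => ?_
  rw [CochainComplex.next ℕ p]
  intro W z w hw x hx
  obtain ⟨U, g, dl, hc, h, σ, e, hxU, hσ, he⟩ := exists_rep K m hs (p + 1) W w x hx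
  let Ua : X.affineOpens := ⟨U, hc.frame.affine⟩
  let z2 : NN Λ E U p := TT K Ua p ((K.K.X p).obj.map (homOfLE h).op z)
  have hDz : DU K Ua p z2 = (∏ j, g j ^ (μ j * m)) • K.loc (p + 1) Ua e := by
    rw [← TT_d K Ua, ← hσ, ← TT_fX μ K m (p + 1) Ua, ← he, natural (K.K.d p (p + 1)) h]
    exact congrArg (TT K Ua (p + 1)) ((congrArg _ hw.symm).trans (natural (fX μ K m (p + 1)) h w).symm)
  have hgood := good_chart K hs.univ hc ρ hρ (fun j => μ j * m) fun i j _ e => hbang i j U hc.frame.affine e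
  have hmem : DU K Ua p z2 ∈ G (M := Γ(E, U)) (∏ j, g j ^ (μ j * m)) (p + 1) := hDz ▸ G_of_dvd dvd_rfl _
  have hback : ∀ e', TT K Ua p ((fX μ K m p).hom.app (op U)
      (H11Ample.tm ((K.loc p Ua).symm e') (H11Ample.spow σ m))) = (∏ j, g j ^ (μ j * m)) • e' := fun e' => by
    rw [TT_fX μ K m p Ua, hσ, LinearEquiv.apply_symm_apply]
  cases p with
  | zero =>
    obtain ⟨e', he'⟩ := hgood.1 z2 hmem
    refine ⟨U, hxU, h, H11Ample.tm ((K.loc 0 Ua).symm e') (H11Ample.spow σ m), 0, (TT_bijective K Ua 0).1 ?_⟩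
    rw [map_zero, add_zero]
    refine Eq.trans ?_ (hback e').symm
    rw [LinearMap.lsmul_apply] at he'
    exact he'.symm
  | succ q =>
    rw [CochainComplex.prev_nat_succ]
    obtain ⟨y, e', he'⟩ := hgood.2 q z2 hmem
    obtain ⟨y', rfl⟩ := (TT_bijective K Ua q).2 y
    refine ⟨U, hxU, h, H11Ample.tm ((K.loc (q + 1) Ua).symm e') (H11Ample.spow σ m), y',
      (TT_bijective K Ua (q + 1)).1 ?_⟩
    show z2 = _
    rw [TT_add, TT_d]
    rw [LinearMap.lsmul_apply] at he'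
    refine Eq.trans ?_ (congrArg (· + _) (hback e')).symm
    rw [he']
    exact (sub_add_cancel _ _).symm

end Groth.Agent.H27LogVan
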